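import Cfsg.Agent.Lib.ExcP.Kill
import Cfsg.Agent.Lib.Small.Sieve
import Cfsg.Agent.Lib.SmallSimple.G168

/-!
# Elimination of group orders via exceptional characters, from the number of Sylow subgroups
-/

set_option autoImplicit false

namespace Cfsg.Agent.Lib.ExcP.KillSylow

open Cfsg Cfsg.Agent.Lib.Char.Ortho
open Cfsg.Agent.Lib.ExcP.Gram Cfsg.Agent.Lib.ExcP.Inst Cfsg.Agent.Lib.ExcP.Kill
open Cfsg.Agent.Lib.Small.Basic Cfsg.Agent.Lib.Small.Sieve

universe u

variable {G : Type u} [Group G] [Finite G] [IsSimpleGroup G]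

/-- The self-centralizing case, with prime index in the normalizer. -/
theorem false_of_prime_index (hG : ¬ IsMulCommutative G) {N p e m : ℕ} [hp : Fact p.Prime]
    (hN : Nat.card G = N) (hf : N = p * m) (hm : ¬ p ∣ m) (hn : Nat.card (Sylow p G) * e = m)
    (hprime : e.Prime) (he : e < p - 1) (hk : killB N p e = true) : False := by
  classical
  let _ : Fintype G := Fintype.ofFinite _
  have := Cfsg.Agent.Lib.Char.Ortho.finite_irrCharacter (G := G)
  let _ : Fintype (IrrCharacter G) := Fintype.ofFinite _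
  obtain ⟨P⟩ : Nonempty (Sylow p G) := inferInstance
  have hf' : N = p ^ 1 * m := by rw [pow_one]; exact hf
  have hN' : Nat.card G = p ^ 1 * m := hN.trans hf'
  have hP : Nat.card (P : Subgroup G) = p := by
    rw [Cfsg.Agent.Lib.Small.Sieve.card_sylow_eq hN' hm P, pow_one]
  have hpd : p ∣ Nat.card G := by
    rw [hN, hf]
    exact Dvd.intro _ rfl
  have hBurn := normalizer_not_le_centralizer hG p hpd P
  have hcardN : Nat.card (Subgroup.normalizer ((P : Subgroup G) : Set G)) = p * e := by
    have h1 := card_normalizer_mul P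
    have hpos : 0 < Nat.card (Sylow p G) := Nat.card_pos
    rw [hN, hf, ← hn] at h1
    have h2 : Nat.card (Subgroup.normalizer ((P : Subgroup G) : Set G)) * Nat.card (Sylow p G) =
        (p * e) * Nat.card (Sylow p G) := by
      rw [h1]
      ring
    exact Nat.eq_of_mul_eq_mul_right hpos h2
  have hC := Cfsg.Agent.Lib.SmallSimple.G168.centralizer_eq_of_prime_index hprime P hP hcardN hBurn
  have hp2 : ¬ p ^ 2 ∣ Nat.card G := by
    rw [hN, hf, pow_two]
    intro h
    exact hm (Nat.dvd_of_mul_dvd_mul_left hp.out.pos h)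
  have hdata := exc_self (G := G) (P := (P : Subgroup G)) hP hp2 e (by rw [hcardN, mul_comm]) hC he
  exact false_of_data hG hN (hf ▸ Dvd.intro _ rfl) he hdata hk

end Cfsg.Agent.Lib.ExcP.KillSylow
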